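import Cfsg.Agent.Helper11.SchU35.Tab

set_option autoImplicit false
set_option linter.all false
set_option maxRecDepth 1000000
set_option maxHeartbeats 0

namespace Cfsg.Agent.Helper11.SchU35

theorem okR10 : OKR (10 * 520) 520 := by decide +kernel
theorem okR11 : OKR (11 * 520) 520 := by decide +kernel

end Cfsg.Agent.Helper11.SchU35
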