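import Mathlib
import Cfsg.Agent.Helper19.TCR.Lab
import Cfsg.Agent.Helper11.SchU35.Chk0
import Cfsg.Agent.Helper11.SchU35.Chk1
import Cfsg.Agent.Helper11.SchU35.Chk2
import Cfsg.Agent.Helper11.SchU35.Chk3
import Cfsg.Agent.Helper11.SchU35.Chk4
import Cfsg.Agent.Helper11.SchU35.Chk5
import Cfsg.Agent.Helper11.SchU35.Chk6
import Cfsg.Agent.Helper11.SchU35.Chk7
import Cfsg.Agent.Helper11.SchU35.Chk8
import Cfsg.Agent.Helper11.SchU35.Chk9
import Cfsg.Agent.Helper11.SchU35.Chk10
import Cfsg.Agent.Helper11.SchU35.Chk11
import Cfsg.Agent.Helper11.SchU35.Chk12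
import Cfsg.Agent.Helper11.SchU35.ChkT

set_option autoImplicit false
set_option linter.all false
set_option maxRecDepth 1000000
set_option maxHeartbeats 0

namespace Cfsg.Agent.Helper11.SchU35

open Cfsg.Agent.Helper19.TCS Cfsg.Agent.Helper19.TCL

theorem okR_all : ∀ p, p < 25 → OKR (p * 520) 520 := by
  intro p hp
  interval_cases p
  · exact okR0
  · exact okR1
  · exact okR2
  · exact okR3
  · exact okR4
  · exact okR5
  · exact okR6
  · exact okR7
  · exact okR8
  · exact okR9
  · exact okR10
  · exact okR11
  · exact okR12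
  · exact okR13
  · exact okR14
  · exact okR15
  · exact okR16
  · exact okR17
  · exact okR18
  · exact okR19
  · exact okR20
  · exact okR21
  · exact okR22
  · exact okR23
  · exact okR24

theorem okT_all : ∀ p, p < 1 → OKT (p * 20000) 20000 := by
  intro p hp
  interval_cases p
  · exact okT0

theorem okAll : ∀ i l, i < 12600 → l < 4 → OKE i l := by
  intro i l hi hl
  have hp : i / 520 < 25 := by omega
  have h1 : i / 520 * 520 ≤ i := Nat.div_mul_le_self i 520
  have h2 : i < i / 520 * 520 + 520 := by omega
  exact okRowsL_spec (i / 520 * 520) 520 (okR_all (i / 520) hp) i h1 h2 hi l hl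

theorem treeAll : ∀ j, 0 < j → j < 12600 → parF j < j := by
  intro j h0 hj
  have hp : j / 20000 < 1 := by omega
  have h1 : j / 20000 * 20000 ≤ j := Nat.div_mul_le_self j 20000
  have h2 : j < j / 20000 * 20000 + 20000 := by omega
  exact okTree_spec (j / 20000 * 20000) 20000 (okT_all (j / 20000) hp) j h1 h2 h0 hj

theorem rotsF_ok : ∀ r, r < 49 → rotsF r = rotL.getD r ([], 0, 0) := by
  have h : (List.range 49).all (fun r => rotsF r == rotL.getD r ([], 0, 0)) = true := by decide +kernel
  intro r hr
  have := forall_lt_of_all h r hr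
  exact beq_iff_eq.mp this

theorem rotL_ok : (List.range 49).all (fun r =>
    rotOKL 4 subs.length 8 1048576 16384 8192 rels (rotL.getD r ([], 0, 0)) (rotIdx.getD r (0, 0))) = true := by
  decide +kernel

theorem subL_ok : (List.range subL.length).all (fun s =>
    subOKL 4 8 1048576 16384 8192 subs (subL.getD s ([], 0, [], 0)) (subIdx.getD s 0)) = true := by
  decide +kernel

theorem subsF_ok : ∀ s, (subsF s).2.1 < 4 → s < subL.length ∧ subsF s = subL.getD s ([], 0, [], 0) := by
  intro s hs
  unfold subsF at hs ⊢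
  by_cases h : s < subL.length
  · refine ⟨h, ?_⟩
    rw [List.getD_eq_getElem _ _ h, List.getD_eq_getElem _ _ h]
  · rw [List.getD_eq_default _ _ (not_lt.mp h)] at hs
    simp at hs

/-- the labelled table is closed, for any group with generators `gc` whose relator values are central. -/
theorem closedL {Γ : Type*} [Group Γ] {C : Type*} [CommGroup C] (gc : ℕ → Γ) (ι : C →* Γ) (gen : ℕ → C)
    (hinv : ∀ l, l < 4 → gc (invF l) = (gc l)⁻¹)
    (hrels : ∀ ρ, ρ < rels.length → prodw gc (rels.getD ρ []) = ι (gen (subs.length + ρ)) ∧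
      ∀ g : Γ, Commute (prodw gc (rels.getD ρ [])) g)
    (hsubs : ∀ s, s < subs.length → prodw gc (subs.getD s []) = ι (gen s)) :
    SemL 12600 4 32768 8 1048576 16384 8192 11417992430693805122117717997865475046631284736 invF 49 rotsF subsF gc ι gen ∧
      ∀ i l, i < 12600 → l < 4 → FactL gc ι gen 12600 16384 34359738368 8 1048576 16384 8192 ent parF pletF i l := by
  have S : SemL 12600 4 32768 8 1048576 16384 8192 11417992430693805122117717997865475046631284736 invF 49 rotsF subsF gc ι gen :=
    semL_of_data rels subs rotL rotIdx subL subIdx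
      (by intro l hl; interval_cases l <;> decide) hinv (by norm_num) (by norm_num) (by norm_num)
      (by decide +kernel) (by norm_num) (by norm_num) rotsF_ok rotL_ok hrels subsF_ok subL_ok hsubs
  exact ⟨S, closed_of_okL S treeAll okAll⟩

end Cfsg.Agent.Helper11.SchU35
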