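import Mathlib
import Cfsg.Agent.Helper11.SchU35.Facts
import Cfsg.Agent.Helper19.Schur.Cover

/-! Instance of helper19's labelled Todd–Coxeter pipeline: every group generated by a pair
satisfying `rels` has order at most `126000`; generated by helper11's `emit_u35.py`. -/

set_option autoImplicit false
set_option linter.all false
set_option maxRecDepth 100000

namespace Cfsg.Agent.Helper11.SchU35

open Cfsg Cfsg.Agent.Helper19.TCS Cfsg.Agent.Helper19.TCL
  Cfsg.Agent.Helper19.Schur

universe u

theorem invF_eq : ∀ l, l < 4 → invF l = inv4 l := by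
  intro l hl
  interval_cases l <;> rfl

theorem prodw_replicate' {Δ : Type*} [Group Δ] (gc : ℕ → Δ) (l n : ℕ) :
    prodw gc (List.replicate n l) = gc l ^ n := by
  induction n with
  | zero => simp [prodw]
  | succ n ih => rw [List.replicate_succ, prodw, ih, pow_succ]

theorem hcen_of_trivial {Δ : Type u} [Group Δ] (a b : Δ)
    (h : ∀ w ∈ rels, prodw (gc2 a b) w = 1) :
    ∀ ρ g, Commute (prodw (gc2 a b) (rels.getD ρ [])) g := by
  intro ρ g
  have : prodw (gc2 a b) (rels.getD ρ []) = 1 :=
    forall_getD_of_forall_mem (fun w => prodw (gc2 a b) w = 1) rels [] h rfl ρ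
  rw [this]
  exact Commute.one_left g

theorem closedL' {Δ : Type u} [Group Δ] (a b : Δ)
    (hcen : ∀ ρ g, Commute (prodw (gc2 a b) (rels.getD ρ [])) g) :
    SemL 12600 4 32768 8 1048576 16384 8192 11417992430693805122117717997865475046631284736 invF 49 rotsF subsF
        (gc2 a b) (iotaC (gfam a b rels 8) (gfam_comm a b rels 8 hcen)) (genC 8) ∧
      ∀ i l, i < 12600 → l < 4 →
        FactL (gc2 a b) (iotaC (gfam a b rels 8) (gfam_comm a b rels 8 hcen)) (genC 8)
          12600 16384 34359738368 8 1048576 16384 8192 ent parF pletF i l :=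
  closedL (gc2 a b) _ (genC 8) (gc2_invF a b invF invF_eq)
    (bridge_rels a b rels 8 (by decide) hcen) (bridge_subs a b rels 8 (by norm_num) hcen)

theorem hT1 (Δ : Type u) [Group Δ] (a b : Δ)
    (hgen : Subgroup.closure {a, b} = (⊤ : Subgroup Δ))
    (hrel : ∀ w ∈ rels, prodw (gc2 a b) w = 1) : Finite Δ ∧ Nat.card Δ ≤ 126000 := by
  have hcen := hcen_of_trivial a b hrel
  obtain ⟨S, hcl⟩ := closedL' a b hcen
  have ha : a ^ 10 = 1 := by
    have h1 := hrel (List.replicate 10 0) (by decide)
    rw [prodw_replicate'] at h1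
    exact h1
  have hι : ∀ c, iotaC (gfam a b rels 8) (gfam_comm a b rels 8 hcen) c ∈ Subgroup.zpowers a := by
    intro c
    apply iotaC_mem
    intro i
    unfold gfam
    split_ifs with h
    · exact Subgroup.mem_zpowers a
    · have : prodw (gc2 a b) (rels.getD ((i : ℕ) - 1) []) = 1 :=
        forall_getD_of_forall_mem (fun w => prodw (gc2 a b) w = 1) rels [] hrel rfl _
      rw [this]
      exact one_mem _
  have := card_le_of_factL a b hgen _ (genC 8) S hcl 10 (by norm_num) ha hι
  exact this

end Cfsg.Agent.Helper11.SchU35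

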